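import Mathlib
import Groth.Agent.S0582

/-!
Big projective modules over rings which are Noetherian modulo the Jacobson radical (Bass).
-/

set_option autoImplicit false
set_option linter.style.haveILetI false

universe u

namespace Groth.Agent.BigProj

variable {R : Type u} [CommRing R] {P : Type u} [AddCommGroup P] [Module R P]

/-- Infinite rank at every maximal ideal, in elementary form. -/
def Big (R : Type u) [CommRing R] (P : Type u) [AddCommGroup P] [Module R P] : Prop :=
  ∀ (m : Ideal R), m.IsMaximal → ∀ N : Submodule R P, N.FG → N ⊔ m • ⊤ ≠ ⊤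

theorem big_of_not_finite [Module.Projective R P] (hP : ∀ (m : Ideal R) [m.IsMaximal],
    ¬ Module.Finite (Localization.AtPrime m) (LocalizedModule m.primeCompl P)) : Big R P := by
  classical
  intro m hm N hN htop
  haveI := hm
  let L := Localization.AtPrime m
  let Pm := LocalizedModule m.primeCompl P
  let f := LocalizedModule.mkLinearMap m.primeCompl P
  haveI : Module.Projective L Pm := Module.projective_of_isLocalizedModule m.primeCompl f
  haveI : Module.Free L Pm := S0582.result L Pm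
  let b := Module.Free.chooseBasis L Pm
  haveI : Infinite (Module.Free.ChooseBasisIndex L Pm) := not_finite_iff_infinite.1 fun h =>
    hP m (Module.Finite.of_basis b)
  obtain ⟨T, rfl⟩ := hN
  obtain ⟨i, hi⟩ := Infinite.exists_notMem_finset (T.biUnion fun t => (b.repr (f t)).support)
  have key : ∀ x : P, b.repr (f x) i ∈ IsLocalRing.maximalIdeal L := by
    intro x
    have hx : x ∈ Submodule.span R (T : Set P) ⊔ m • ⊤ := by rw [htop]; trivial
    obtain ⟨y, hy, z, hz, rfl⟩ := Submodule.mem_sup.1 hx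
    rw [map_add, map_add, Finsupp.add_apply]
    refine Ideal.add_mem _ ?_ ?_
    · clear hx
      induction hy using Submodule.span_induction with
      | mem t ht =>
        rw [Finsupp.notMem_support_iff.1 fun h => hi (Finset.mem_biUnion.2 ⟨t, ht, h⟩)]
        exact Ideal.zero_mem _
      | zero => simp
      | add a c _ _ ha hc => rw [map_add, map_add, Finsupp.add_apply]; exact Ideal.add_mem _ ha hc
      | smul r a _ ha =>
        rw [map_smul, ← algebraMap_smul L, map_smul, Finsupp.smul_apply]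
        exact Ideal.mul_mem_left _ _ ha
    · refine Submodule.smul_induction_on hz (fun r hr a _ => ?_) fun a c ha hc => ?_
      · rw [map_smul, ← algebraMap_smul L, map_smul, Finsupp.smul_apply]
        exact Ideal.mul_mem_right _ _ ((IsLocalization.AtPrime.to_map_mem_maximal_iff L m r).2 hr)
      · rw [map_add, map_add, Finsupp.add_apply]; exact Ideal.add_mem _ ha hc
  obtain ⟨⟨x, s⟩, hxs⟩ := IsLocalizedModule.surj m.primeCompl f (b i)
  have h := key x
  dsimp only at hxs
  rw [← hxs, Submonoid.smul_def, ← algebraMap_smul L, map_smul, Finsupp.smul_apply, Module.Basis.repr_self,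
    Finsupp.single_eq_same, smul_eq_mul, mul_one] at h
  exact s.2 ((IsLocalization.AtPrime.to_map_mem_maximal_iff L m s).1 h)

theorem fg_of_surjective {S : Type u} [CommRing S] [Algebra R S] (hs : Function.Surjective (algebraMap R S))
    {W : Type u} [AddCommGroup W] [Module R W] [Module S W] [IsScalarTower R S W] [IsNoetherian S W]
    (N : Submodule R W) : N.FG := by
  obtain ⟨T, hT⟩ := IsNoetherian.noetherian (Submodule.span S (N : Set W))
  refine ⟨T, ?_⟩
  have h := congrArg (Submodule.restrictScalars R) hT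
  rw [Submodule.restrictScalars_span R S hs, Submodule.restrictScalars_span R S hs, Submodule.span_eq] at h
  exact h

section Core

variable [IsNoetherianRing (R ⧸ (⊥ : Ideal R).jacobson)] [Module.Projective R P]

theorem jacobson_le {m : Ideal R} (hm : m.IsMaximal) : (⊥ : Ideal R).jacobson ≤ m :=
  sInf_le ⟨bot_le, hm⟩

theorem isUnit_of_sup_eq (u : R) (v : R) (hv : v ∈ (⊥ : Ideal R).jacobson) (h : u + v = 1) : IsUnit u := by
  refine Ideal.isUnit_of_sub_one_mem_jacobson_bot u ?_
  rw [show u - 1 = -v by rw [← h]; ring]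
  exact neg_mem hv

/-- A complement of a finitely generated submodule meets every congruence condition on finitely many
coordinates in an element whose other coordinates generate the unit ideal. -/
theorem core (i : P →ₗ[R] P →₀ R) (hi : ∀ x, Finsupp.linearCombination R id (i x) = x) (hP : Big R P)
    (M N : Submodule R P) (hN : N.FG) (hMN : M ⊔ N = ⊤) (I₀ : Ideal R) (E : Finset P) :
    ∃ k ∈ M, (∀ j ∈ E, i k j ∈ (⊥ : Ideal R).jacobson) ∧
      I₀ ⊔ Ideal.span ((fun j => i k j) '' {j | j ∉ E}) ⊔ (⊥ : Ideal R).jacobson = ⊤ := by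
  classical
  let J := (⊥ : Ideal R).jacobson
  let A : P → Ideal R := fun k => I₀ ⊔ Ideal.span ((fun j => i k j) '' {j | j ∉ E}) ⊔ J
  let S : Set (Ideal (R ⧸ J)) := {a | ∃ k ∈ M, (∀ j ∈ E, i k j ∈ J) ∧ (A k).map (Ideal.Quotient.mk J) = a}
  obtain ⟨_, ⟨k, hkM, hkE, rfl⟩, hmax⟩ := wellFounded_gt.has_min S
    ⟨_, 0, M.zero_mem, fun j _ => by simp, rfl⟩
  refine ⟨k, hkM, hkE, ?_⟩
  by_contra hne
  obtain ⟨m, hm, hle⟩ := Ideal.exists_le_maximal (A k) hne
  -- coordinates to avoid
  let E' : Finset P := E ∪ (i k).support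
  let q : M →ₗ[R] (E' → R ⧸ J) :=
    LinearMap.pi fun j => (Submodule.mkQ J).comp ((Finsupp.lapply j.1).comp (i.comp M.subtype))
  obtain ⟨T, hT⟩ := fg_of_surjective (S := R ⧸ J) Ideal.Quotient.mk_surjective (LinearMap.range q)
  have hTl : ∀ t ∈ T, ∃ y : M, q y = t := fun t ht => by
    have : t ∈ LinearMap.range q := hT ▸ Submodule.subset_span ht
    exact this
  choose y hy using hTl
  let N' := Submodule.span R ((T.attach.image fun t => ((y t.1 t.2 : M) : P)) : Set P)
  obtain ⟨x, hxM, hxE, hxm⟩ : ∃ x ∈ M, (∀ j ∈ E', i x j ∈ J) ∧ ∃ j, i x j ∉ m := by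
    by_contra hno
    refine hP m hm (N ⊔ N') (hN.sup ⟨_, rfl⟩) (eq_top_iff.2 fun z _ => ?_)
    obtain ⟨a, ha, c, hc, rfl⟩ := Submodule.mem_sup.1 (hMN ▸ Submodule.mem_top : z ∈ M ⊔ N)
    refine add_mem ?_ (Submodule.mem_sup_left (Submodule.mem_sup_left hc))
    have hqa : q ⟨a, ha⟩ ∈ Submodule.span R (T : Set (E' → R ⧸ J)) := hT.symm ▸ LinearMap.mem_range_self q _
    have hspan : Submodule.span R (T : Set (E' → R ⧸ J)) ≤
        Submodule.map q (Submodule.comap M.subtype N') := by
      refine Submodule.span_le.2 fun t ht => ⟨y t ht, ?_, hy t ht⟩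
      exact Submodule.subset_span (Finset.mem_image.2 ⟨⟨t, ht⟩, Finset.mem_attach _ _, rfl⟩)
    obtain ⟨a', ha', hqa'⟩ := hspan hqa
    rw [show a = (a - (a' : P)) + (a' : P) by rw [sub_add_cancel]]
    refine add_mem (Submodule.mem_sup_right ?_) (Submodule.mem_sup_left (Submodule.mem_sup_right ha'))
    have hd : ∀ j ∈ E', i (a - (a' : P)) j ∈ J := fun j hj => by
      have := congrFun hqa' ⟨j, hj⟩
      change Ideal.Quotient.mk J (i (a' : P) j) = Ideal.Quotient.mk J (i a j) at this
      rw [map_sub, Finsupp.sub_apply]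
      exact Ideal.Quotient.eq.1 this.symm
    have hall : ∀ j, i (a - (a' : P)) j ∈ m := fun j => by
      by_contra h
      exact hno ⟨_, M.sub_mem ha a'.2, hd, j, h⟩
    rw [← hi (a - (a' : P)), Finsupp.linearCombination_apply]
    exact Submodule.sum_mem _ fun j _ => Submodule.smul_mem_smul (hall j) Submodule.mem_top
  obtain ⟨j₀, hj₀⟩ := hxm
  have hJm : J ≤ m := jacobson_le hm
  have hj₀E : j₀ ∉ E' := fun h => hj₀ (hJm (hxE j₀ h))
  have hk' : ∀ j ∈ E, i (k + x) j ∈ J := fun j hj => by
    rw [map_add, Finsupp.add_apply]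
    exact add_mem (hkE j hj) (hxE j (Finset.mem_union_left _ hj))
  have hkx : A k ≤ A (k + x) := by
    refine sup_le (sup_le (le_sup_of_le_left le_sup_left) (Ideal.span_le.2 ?_)) le_sup_right
    rintro _ ⟨j, hj, rfl⟩
    by_cases h0 : i k j = 0
    · change i k j ∈ _
      rw [h0]; exact zero_mem _
    · change i k j ∈ _
      rw [show i k j = i (k + x) j - i x j by rw [map_add, Finsupp.add_apply, add_sub_cancel_right]]
      exact sub_mem (Submodule.mem_sup_left (Submodule.mem_sup_right (Ideal.subset_span ⟨j, hj, rfl⟩)))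
        (Submodule.mem_sup_right (hxE j (Finset.mem_union_right _ (Finsupp.mem_support_iff.2 h0))))
  have hx0 : i x j₀ ∈ A (k + x) := by
    refine Submodule.mem_sup_left (Submodule.mem_sup_right (Ideal.subset_span ⟨j₀, ?_, ?_⟩))
    · exact fun h => hj₀E (Finset.mem_union_left _ h)
    · change i (k + x) j₀ = i x j₀
      rw [map_add, Finsupp.add_apply, Finsupp.notMem_support_iff.1 fun h => hj₀E (Finset.mem_union_right _ h), zero_add]
  refine hmax _ ⟨k + x, M.add_mem hkM hxM, hk', rfl⟩ (lt_of_le_of_ne (Ideal.map_mono hkx) fun heq => hj₀ (hle ?_))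
  have h := congrArg (Ideal.comap (Ideal.Quotient.mk J)) heq
  rw [Ideal.comap_map_of_surjective' _ Ideal.Quotient.mk_surjective,
    Ideal.comap_map_of_surjective' _ Ideal.Quotient.mk_surjective, Ideal.mk_ker,
    sup_eq_left.2 (le_sup_right : J ≤ A k), sup_eq_left.2 (le_sup_right : J ≤ A (k + x))] at h
  change _ ∈ A k
  rw [show A k = A (k + x) from h]
  exact hx0

theorem exists_form (i : P →ₗ[R] P →₀ R) (E : Finset P) (k : P) (a : R)
    (ha : a ∈ Ideal.span ((fun j => i k j) '' {j | j ∉ E})) :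
    ∃ φ : P →ₗ[R] R, φ k = a ∧ ∀ x, (∀ j ∉ E, i x j = 0) → φ x = 0 := by
  induction ha using Submodule.span_induction with
  | mem a ha =>
    obtain ⟨j, hj, rfl⟩ := ha
    exact ⟨(Finsupp.lapply j).comp i, rfl, fun x hx => hx j hj⟩
  | zero => exact ⟨0, rfl, fun _ _ => rfl⟩
  | add a b _ _ ha hb =>
    obtain ⟨φ, h1, h2⟩ := ha
    obtain ⟨ψ, h3, h4⟩ := hb
    exact ⟨φ + ψ, by rw [LinearMap.add_apply, h1, h3], fun x hx => by rw [LinearMap.add_apply, h2 x hx, h4 x hx, add_zero]⟩
  | smul c a _ ha =>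
    obtain ⟨φ, h1, h2⟩ := ha
    exact ⟨c • φ, by rw [LinearMap.smul_apply, h1], fun x hx => by rw [LinearMap.smul_apply, h2 x hx, smul_zero]⟩

theorem exists_coords : ∃ i : P →ₗ[R] P →₀ R, ∀ x, Finsupp.linearCombination R id (i x) = x := by
  obtain ⟨i, hi⟩ := Module.projective_def.1 (inferInstance : Module.Projective R P)
  exact ⟨i, hi⟩

/-- Unimodular elements in translates. -/
theorem exists_unimodular (hP : Big R P) (s : P) (M : Submodule R P) (hM : Submodule.span R {s} ⊔ M = ⊤) :
    ∃ m ∈ M, ∃ φ : P →ₗ[R] R, φ (s + m) = 1 := by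
  classical
  obtain ⟨i, hi⟩ := exists_coords (R := R) (P := P)
  obtain ⟨k, hk, hkE, htop⟩ := core i hi hP M (Submodule.span R {s}) (Submodule.fg_span_singleton s)
    (by rwa [sup_comm]) (Ideal.span ((i s).support.image fun j => i s j : Finset R)) (i s).support
  have hle : Ideal.span ((i s).support.image fun j => i s j : Finset R) ⊔
      Ideal.span ((fun j => i k j) '' {j | j ∉ (i s).support}) ⊔ (⊥ : Ideal R).jacobson ≤
      Submodule.map (LinearMap.applyₗ (s + k) : (P →ₗ[R] R) →ₗ[R] R) ⊤ ⊔ (⊥ : Ideal R).jacobson := by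
    refine sup_le (sup_le (Ideal.span_le.2 ?_) (Ideal.span_le.2 ?_)) le_sup_right
    · intro a ha
      obtain ⟨j, hj, rfl⟩ := Finset.mem_image.1 ha
      rw [SetLike.mem_coe, show i s j = i (s + k) j - i k j by rw [map_add, Finsupp.add_apply, add_sub_cancel_right]]
      exact sub_mem (Submodule.mem_sup_left ⟨(Finsupp.lapply j).comp i, trivial, rfl⟩)
        (Submodule.mem_sup_right (hkE j hj))
    · rintro _ ⟨j, hj, rfl⟩
      refine Submodule.mem_sup_left ⟨(Finsupp.lapply j).comp i, trivial, ?_⟩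
      change i (s + k) j = i k j
      rw [map_add, Finsupp.add_apply, Finsupp.notMem_support_iff.1 hj, zero_add]
  obtain ⟨u, ⟨φ, -, rfl⟩, v, hv, huv⟩ := Submodule.mem_sup.1 (hle (htop ▸ Submodule.mem_top : (1 : R) ∈ _))
  have hu : IsUnit (φ (s + k)) := isUnit_of_sup_eq _ v hv huv
  exact ⟨k, hk, (↑hu.unit⁻¹ : R) • φ, by rw [LinearMap.smul_apply, smul_eq_mul, IsUnit.val_inv_mul hu]⟩

/-- Free summands avoiding given data. -/
theorem exists_free_avoiding (hP : Big R P) (e : P →ₗ[R] P) (he : ∀ x, e (e x) = e x) (hker : (LinearMap.ker e).FG)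
    (s : P) (hs : e s = s) (n : ℕ) :
    ∃ (h : (Fin n → R) →ₗ[R] P) (π : P →ₗ[R] Fin n → R),
      (∀ v, π (h v) = v) ∧ (∀ v, e (h v) = h v) ∧ (∀ x, π (e x) = π x) ∧ π s = 0 := by
  classical
  induction n with
  | zero => exact ⟨0, 0, fun v => Subsingleton.elim _ _, fun v => by simp, fun x => rfl, rfl⟩
  | succ n ih =>
    obtain ⟨h, π, hπ, heh, hπe, hπs⟩ := ih
    obtain ⟨i, hi⟩ := exists_coords (R := R) (P := P)
    have hMN : (LinearMap.range e ⊓ LinearMap.ker π) ⊔ (LinearMap.ker e ⊔ LinearMap.range h) = ⊤ := by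
      refine eq_top_iff.2 fun x _ => ?_
      rw [show x = (e x - h (π x)) + ((x - e x) + h (π x)) by abel]
      refine add_mem (Submodule.mem_sup_left ⟨?_, ?_⟩) (Submodule.mem_sup_right
        (add_mem (Submodule.mem_sup_left ?_) (Submodule.mem_sup_right (LinearMap.mem_range_self h _))))
      · exact ⟨x - h (π x), by rw [map_sub, heh]⟩
      · exact LinearMap.mem_ker.2 (by rw [map_sub, hπe, hπ, sub_self])
      · exact LinearMap.mem_ker.2 (by rw [map_sub, he, sub_self])
    obtain ⟨k, ⟨hke, hkπ⟩, -, htop⟩ := core i hi hP _ _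
      (hker.sup (Module.Finite.iff_fg.1 inferInstance)) hMN ⊥ (i s).support
    rw [bot_sup_eq] at htop
    obtain ⟨a, ha, v, hv, hav⟩ := Submodule.mem_sup.1 (htop ▸ Submodule.mem_top : (1 : R) ∈ _)
    obtain ⟨φ₀, hφk, hφ0⟩ := exists_form i _ k a ha
    have hu : IsUnit a := isUnit_of_sup_eq a v hv hav
    let φ : P →ₗ[R] R := ((↑hu.unit⁻¹ : R) • (φ₀ - φ₀.comp (h.comp π))).comp e
    have hek : e k = k := by obtain ⟨z, rfl⟩ := hke; exact he z
    have hπk : π k = 0 := hkπ
    have hk1 : φ k = 1 := by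
      simp [φ, hek, hπk, hφk]
    have hh0 : ∀ v, φ (h v) = 0 := fun v => by simp [φ, heh, hπ]
    have hs0 : φ s = 0 := by
      simp [φ, hs, hπs, hφ0 s fun j hj => Finsupp.notMem_support_iff.1 hj]
    have hφe : ∀ x, φ (e x) = φ x := fun x => by simp [φ, he]
    let c : (Fin (n + 1) → R) →ₗ[R] (Fin n → R) := LinearMap.funLeft R R Fin.succ
    refine ⟨(LinearMap.proj 0).smulRight k + h.comp c,
      LinearMap.pi (Fin.cons φ fun j => (LinearMap.proj j).comp π), fun v => ?_, fun v => ?_, fun x => ?_, ?_⟩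
    · funext j
      refine Fin.cases ?_ (fun j => ?_) j
      · simp [hk1, hh0]
      · simp [hπk, hπ, c, LinearMap.funLeft]
    · simp [hek, heh]
    · funext j
      refine Fin.cases ?_ (fun j => ?_) j
      · simp [hφe]
      · simp [hπe]
    · funext j
      refine Fin.cases ?_ (fun j => ?_) j
      · simp [hs0]
      · simp [hπs]

/-- Every element of a big summand lies in a finite free summand of it. -/
theorem exists_free_summand (hP : Big R P) (e : P →ₗ[R] P) (he : ∀ x, e (e x) = e x) (hker : (LinearMap.ker e).FG)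
    (s : P) (hs : e s = s) :
    ∃ (n : ℕ) (σ : (Fin n → R) →ₗ[R] P) (π : P →ₗ[R] Fin n → R),
      (∀ v, π (σ v) = v) ∧ (∀ v, e (σ v) = σ v) ∧ (∀ x, π (e x) = π x) ∧ s ∈ LinearMap.range σ := by
  classical
  obtain ⟨i, hi⟩ := exists_coords (R := R) (P := P)
  obtain ⟨n, ⟨ε⟩⟩ := Finite.exists_equiv_fin (i s).support
  obtain ⟨h, π, hπ, heh, hπe, hπs⟩ := exists_free_avoiding hP e he hker s hs n
  let ψ : P →ₗ[R] Fin n → R := LinearMap.pi fun j => (Finsupp.lapply (ε.symm j : P)).comp i
  let g : (Fin n → R) →ₗ[R] P := Fintype.linearCombination R fun j => (ε.symm j : P)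
  have hgs : g (ψ s) = s := by
    conv_rhs => rw [← hi s, Finsupp.linearCombination_apply]
    rw [Fintype.linearCombination_apply, Finsupp.sum, ← Finset.sum_coe_sort (i s).support]
    exact Fintype.sum_equiv ε.symm _ (fun j : (i s).support => i s (j : P) • id (j : P)) fun j => rfl
  let q : P →ₗ[R] P := e - h.comp π
  have hqh : ∀ v, q (h v) = 0 := fun v => by simp [q, heh, hπ]
  have hπq : ∀ x, π (q x) = 0 := fun x => by simp [q, hπe, hπ]
  have hqq : ∀ x, q (q x) = q x := fun x => by
    simp only [q, LinearMap.sub_apply, LinearMap.comp_apply, map_sub, hπe, hπ, he, heh, sub_self]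
    abel
  have hqs : q s = s := by simp [q, hs, hπs]
  let ψ' : P →ₗ[R] Fin n → R := ψ.comp q
  refine ⟨n, q.comp g + h.comp (LinearMap.id - ψ'.comp (q.comp g)), ψ' + π, fun v => ?_, fun v => ?_, fun x => ?_,
    ⟨ψ s, ?_⟩⟩
  · simp only [ψ', LinearMap.add_apply, LinearMap.comp_apply, map_add, hqq, hqh, map_zero, hπq, hπ, LinearMap.sub_apply,
      LinearMap.id_apply]
    abel
  · simp only [LinearMap.add_apply, LinearMap.comp_apply, map_add, heh]
    congr 1
    simp [q, he, heh]
  · simp [ψ', q, he, hπe]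
  · simp only [ψ', LinearMap.add_apply, LinearMap.comp_apply, LinearMap.sub_apply, LinearMap.id_apply]
    rw [hgs, hqs, hqs, sub_self, map_zero, add_zero]

/-- Bass: countably generated big projective modules are free. -/
theorem free_of_countable (hP : Big R P) (T : Set P) (hT : T.Countable) (hspan : Submodule.span R T = ⊤) :
    Module.Free R P := by
  classical
  obtain ⟨g, hg⟩ := (hT.insert 0).exists_eq_range ⟨0, Set.mem_insert 0 T⟩
  let St := Σ n : ℕ, {σπ : ((Fin n → R) →ₗ[R] P) × (P →ₗ[R] Fin n → R) // ∀ v, σπ.2 (σπ.1 v) = v}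
  let bs : St → Set P := fun A => Set.range fun j => A.2.1.1 (Pi.single j 1)
  have hbs : ∀ A : St, Submodule.span R (bs A) = LinearMap.range A.2.1.1 := fun A => by
    rw [LinearMap.range_eq_map, ← (Pi.basisFun R (Fin A.1)).span_eq, Submodule.map_span, ← Set.range_comp]
    congr 1
    ext x
    simp [bs]
  have step : ∀ (A : St) (s : P), ∃ B : St, bs A ⊆ bs B ∧ s ∈ Submodule.span R (bs B) := by
    rintro ⟨n, ⟨⟨σ, π⟩, hσ⟩⟩ s
    let e : P →ₗ[R] P := LinearMap.id - σ.comp π
    have hπe : ∀ x, π (e x) = 0 := fun x => by simp [e, hσ]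
    have he : ∀ x, e (e x) = e x := fun x => by simp [e, hσ]
    have hker : (LinearMap.ker e).FG := by
      have : LinearMap.ker e = LinearMap.range σ := by
        ext x
        simp only [e, LinearMap.mem_ker, LinearMap.sub_apply, LinearMap.id_apply, LinearMap.comp_apply, sub_eq_zero,
          LinearMap.mem_range]
        exact ⟨fun h => ⟨π x, h.symm⟩, by rintro ⟨v, rfl⟩; rw [hσ]⟩
      rw [this]
      exact Module.Finite.iff_fg.1 inferInstance
    obtain ⟨n', σ', π', hσ', heσ', hπ'e, hs⟩ := exists_free_summand hP e he hker (e s) (he s)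
    have h1 : ∀ v, π (σ' v) = 0 := fun v => by rw [← heσ' v, hπe]
    have h2 : ∀ v, π' (σ v) = 0 := fun v => by rw [← hπ'e, show e (σ v) = 0 by simp [e, hσ], map_zero]
    let l : (Fin (n + n') → R) →ₗ[R] (Fin n → R) := LinearMap.funLeft R R (Fin.castAdd n')
    let r : (Fin (n + n') → R) →ₗ[R] (Fin n' → R) := LinearMap.funLeft R R (Fin.natAdd n)
    let sig' : (Fin (n + n') → R) →ₗ[R] P := σ.comp l + σ'.comp r
    let prj' : P →ₗ[R] (Fin (n + n') → R) :=
      LinearMap.pi (Fin.addCases (fun j => (LinearMap.proj j).comp π) fun j => (LinearMap.proj j).comp π')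
    have hB : ∀ v, prj' (sig' v) = v := fun v => by
      funext j
      refine Fin.addCases (fun j => ?_) (fun j => ?_) j
      · simp [prj', sig', hσ, h1, l, LinearMap.funLeft]
      · simp [prj', sig', hσ', h2, r, LinearMap.funLeft]
    have hl : ∀ (a : Fin n → R) (b : Fin n' → R), sig' (Fin.addCases (motive := fun _ => R) a b) = σ a + σ' b := fun a b => by
      simp only [sig', LinearMap.add_apply, LinearMap.comp_apply]
      congr 2 <;> funext j <;> simp [l, r, LinearMap.funLeft]
    refine ⟨⟨n + n', ⟨(sig', prj'), hB⟩⟩, ?_, ?_⟩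
    · rintro _ ⟨j, rfl⟩
      refine ⟨Fin.castAdd n' j, ?_⟩
      change sig' _ = σ _
      rw [show (Pi.single (Fin.castAdd n' j) (1 : R) : Fin (n + n') → R) =
        Fin.addCases (motive := fun _ => R) (Pi.single j 1) 0 from ?_, hl, map_zero, add_zero]
      funext k
      refine Fin.addCases (fun k => ?_) (fun k => ?_) k
      · simp [Pi.single_apply]
      · rw [Fin.addCases_right, Pi.single_eq_of_ne (by simp [Fin.ext_iff]; omega)]; rfl
    · rw [hbs]
      obtain ⟨b, hb⟩ := hs
      refine ⟨Fin.addCases (motive := fun _ => R) (π s) b, ?_⟩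
      change sig' _ = s
      rw [hl, hb]
      simp [e]
  choose nxt hsub hmem using step
  let A : ℕ → St := fun n => Nat.rec ⟨0, ⟨(0, 0), fun v => Subsingleton.elim _ _⟩⟩ (fun k X => nxt X (g k)) n
  have hmono : Monotone fun n => bs (A n) := monotone_nat_of_le_succ fun n => hsub (A n) (g n)
  have hli : LinearIndepOn R id (⋃ n, bs (A n)) := by
    refine linearIndepOn_iUnion_of_directed hmono.directed_le fun n => ?_
    refine LinearIndependent.linearIndepOn_id ?_
    refine LinearIndependent.of_comp (A n).2.1.2 ?_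
    rw [show ((A n).2.1.2 : P → _) ∘ (fun j => (A n).2.1.1 (Pi.single j 1)) = fun j => Pi.single j 1 from
      funext fun j => (A n).2.2 _]
    convert (Pi.basisFun R (Fin (A n).1)).linearIndependent using 1
    funext j
    exact (Pi.basisFun_apply R _ j).symm
  refine Module.Free.of_basis (Module.Basis.mk (v := ((↑) : (⋃ n, bs (A n)) → P)) hli ?_)
  rw [Subtype.range_coe, ← hspan, Submodule.span_le]
  intro t ht
  obtain ⟨k, rfl⟩ : t ∈ Set.range g := hg ▸ Set.mem_insert_of_mem 0 ht
  exact Submodule.span_mono (Set.subset_iUnion (fun n => bs (A n)) (k + 1)) (hmem (A k) (g k))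

end Core

end Groth.Agent.BigProj
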